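import Cfsg.Agent.Lib.Mult.Glue
import Cfsg.Agent.Lib.Grp.M23.Main

set_option autoImplicit false
set_option maxRecDepth 100000

namespace Cfsg.Agent.Mult.M23

open Cfsg.Agent.CG Cfsg.Agent.CG.M23

noncomputable def p2T : ℕ := 0x1c0300700c01c0300700c01c0300700c01c030000000000000600c0180300600c0f80603e01801803000000000000000000f40600500c014030350180140300000000000000000000001f40240d0061f40240100300000000000000000000000000000ac06fab03000c03000000000000000000000000000001403022018008030000000000000000000000000000000001ac0240040300000000000000000000000000000000000000000000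
noncomputable def p2q1 : ℕ := 0x1c0030005000600080038006000a00100018011000e00180028004000600440038006000a001000d0019
noncomputable def p2q2 : ℕ := 0xf40f98005005600a80030007005607d00018d11007c00180f5811100663e4400381f4fa3400f858d6b11
noncomputable def p2NF : ℕ := 0x40001000000000000000000008000201000000000000000000000000000000000000000000000000000000000000000000000000000000000000000000000000000000000000000000000000000000000000000000000000000000000000000000000000000000000000000000000000000000000000000000000000000000000000000000000000000000000000000000000000000000000000000000000000000000000000000000000000000000000000000000000000000000000000000000000000000000000000000000000000000000000000000000000000000000000000000000000000000000000000000000000000000000000000000000000000000000000000000000000000000000000000000200000000000000000000000040000000000000000000000000000000000000000000000000000000000000000000000000000000000000000000000000040000000000000000000000008000000000000000000000001000000000000000000000000000000000000000000000008040000000000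000000000001000000000000000000000000000000000000000000000000000000000000000000000000000000000000000000000000200000000000000000000000000200000000000000000000008000000000000000000000000000000000000000000000040000000000000000000000000000000000000000000000000000000000000000000000000000000000000000000000000000000000000000000000001008000001000000000000000001000040000000000000000040000000000000000000000000040001000000000000000000000000000000000000000000000000000000000000000000000000000000000000000000000000000000000000000000000000000000008000000000000000000000000008000000000000000000000000008000000000000000000000000000000000000000000000000000000000000000000000000000000000000000000000000000000000000000000000000000000000000000000000000000000000000000000000000000000200000000000000000000000000200000000000000000000000000000000000000000000000000000000000000000000000000000000000000000000000000000000000000000000000000000000000000000000000000000000000000000000000000000000000000000000000000000001000000000000000000000000000000000000000000000000000000000000000000000000000000000000000000000000000000000000000000000000000000000000000000000000000000000000000000000000000000000000000000000000000000000000000000000000000000000000000000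
noncomputable def p2mNF : ℕ := 0x7ffffffffffffffffffffffff
noncomputable def p2gv : ℕ := 0x8040000000000201008000000000040201008000200008040200008000000000040000000000000000000000000000200000000000000040200000000200000000000000000200000000000000000000000040000
noncomputable def p2mgv : ℕ := 0x7ffffffffffffffffffffffff
noncomputable def p2av : ℕ := 0x200008040000000000000008000001008000000000000001000000000000000000000000000000040000000000000000000000000000000000000000000000000000000000000000000000000000000000000000000000000000000000000000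
noncomputable def p2mav : ℕ := 0x7ffffffffffffffffffffffff
noncomputable def p2mu : ℕ := 0x10004000000000000040010004000015145550000000000000055540004000155400000000000000050400454540040000000000000000000140000000000000000000000000000104000000000000000000000000000000000000000000000000000000000000000
noncomputable def p2om : ℕ := 0x0
noncomputable def p2tm : ℕ := 0xcf3cf3cf3a29cf3cf3cf3cf3cf3cf3cf3cf30840432892f3cc718814d3b3cf340c3c0473cf3cd54d44b3cf3cf36da673cf3cf3cd85f3cf3cf3cf35b3cf3cf3cf3cf3
noncomputable def p2par : ℕ := 0x6cd1924444a252ad635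
noncomputable def p2z : Desc := ⟨0,0,0,0,[],[]⟩
noncomputable def p2ds : Tr Desc := (.node (.node (.node (.node (.node (.node (.node (.leaf p2z) (.leaf p2z)) (.leaf p2z)) (.node (.node (.leaf p2z) (.leaf ⟨2,2,0,0,[2,1],[1,2,4,5]⟩)) (.leaf p2z))) (.node (.node (.node (.leaf p2z) (.leaf p2z)) (.leaf p2z)) (.node (.leaf p2z) (.leaf p2z)))) (.node (.node (.node (.node (.leaf p2z) (.leaf p2z)) (.leaf ⟨1,0x2,2,1,[],[]⟩)) (.node (.node (.leaf p2z) (.leaf p2z)) (.leaf ⟨1,0x4,4,2,[],[]⟩))) (.node (.node (.node (.leaf p2z) (.leaf p2z)) (.leaf ⟨0,1,0,0,[],[]⟩)) (.node (.leaf p2z) (.leaf ⟨1,0x5,4,4,[],[]⟩))))) (.node (.node (.node (.node (.node (.leaf p2z) (.leaf p2z)) (.leaf ⟨0,4,0,0,[],[]⟩)) (.node (.node (.leaf ⟨0,7,0,0,[],[]⟩) (.leaf p2z)) (.leaf ⟨1,0x4,2,2,[],[]⟩))) (.node (.node (.node (.leaf p2z) (.leaf p2z)) (.leaf ⟨1,0x2,2,2,[],[]⟩)) (.node (.leaf ⟨0,9,0,0,[],[]⟩) (.leaf ⟨1,0x6,2,2,[],[]⟩)))) (.node (.node (.node (.node (.leaf p2z) (.leaf p2z)) (.leaf p2z)) (.node (.node (.leaf p2z) (.leaf p2z)) (.leaf ⟨1,0x5,5,1,[],[]⟩))) (.node (.node (.node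 (.leaf p2z) (.leaf p2z)) (.leaf p2z)) (.node (.leaf p2z) (.leaf ⟨1,0x6,6,1,[],[]⟩)))))) (.node (.node (.node (.node (.node (.node (.leaf p2z) (.leaf p2z)) (.leaf ⟨1,0x1,1,1,[],[]⟩)) (.node (.node (.leaf ⟨0,6,0,0,[],[]⟩) (.leaf ⟨2,2,0,0,[3,2],[2,3,5]⟩)) (.leaf ⟨1,0x5,1,1,[],[]⟩))) (.node (.node (.node (.leaf ⟨0,5,0,0,[],[]⟩) (.leaf p2z)) (.leaf ⟨0,3,0,0,[],[]⟩)) (.node (.leaf ⟨0,8,0,0,[],[]⟩) (.leaf ⟨1,0x6,1,1,[],[]⟩)))) (.node (.node (.node (.node (.leaf p2z) (.leaf p2z)) (.leaf p2z)) (.node (.node (.leaf p2z) (.leaf p2z)) (.leaf ⟨0,0,0,0,[],[]⟩))) (.node (.node (.node (.leaf p2z) (.leaf p2z)) (.leaf ⟨1,0x3,3,2,[],[]⟩)) (.node (.leaf p2z) (.leaf ⟨1,0x7,2,2,[],[]⟩))))) (.node (.node (.node (.node (.node (.leaf p2z) (.leaf p2z)) (.leaf ⟨1,0x3,1,1,[],[]⟩)) (.node (.node (.leaf p2z) (.leaf p2z)) (.leaf ⟨1,0x5,3,1,[],[]⟩))) (.node (.node (.node (.leaf p2z) (.leaf p2z)) (.leaf ⟨0,2,0,0,[],[]⟩)) (.node (.leaf ⟨0,10,0,0,[],[]⟩) (.leaf ⟨1,0x4,3,3,[],[]⟩)))) (.node (.node (.node (.node (.leaf p2z) (.leaf p2z)) (.leaf p2z)) (.node (.node (.leaf p2z)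 (.leaf p2z)) (.leaf p2z))) (.node (.node (.node (.leaf p2z) (.leaf p2z)) (.leaf p2z)) (.node (.leaf p2z) (.leaf ⟨1,0x5,5,4,[],[]⟩)))))))
noncomputable def p2rd : Tr Desc := (.node (.node (.node (.leaf ⟨2,3,0,0,[4,4],[]⟩) (.leaf ⟨2,0,0,0,[3,3],[]⟩)) (.node (.leaf ⟨2,0,0,0,[2,2],[]⟩) (.leaf ⟨2,2,0,0,[3,0],[0,3,4,5]⟩))) (.node (.node (.leaf ⟨2,2,0,0,[3,3],[]⟩) (.leaf ⟨2,1,0,0,[2,2],[]⟩)) (.leaf ⟨1,0x3,3,1,[],[]⟩)))
noncomputable def D2 : Dat where
  p := 2
  q := 2
  n1 := 8
  b := 3
  fl := 5
  ew := 22
  T := p2T
  w := 11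
  fuel := 54
  nf := 4
  cm := 6
  q1 := fun x => look 0x7fff p2q1 (Nat.mul 15 x)
  q2 := fun x => look 0x7fff p2q2 (Nat.mul 15 x)
  NV := 88
  d := 11
  w2 := 9
  NF := fun x => look p2mNF p2NF (Nat.mul 99 x)
  tm := fun x => look 0x3f p2tm (Nat.mul 6 x)
  TM := 51
  par := fun x => look 0x7f p2par (Nat.mul 7 x)
  ds := fun x => p2ds.get x
  r := 7
  s0 := 0
  gv := fun x => look p2mgv p2gv (Nat.mul 99 x)
  rd := fun x => p2rd.get x
  av := fun x => look p2mav p2av (Nat.mul 99 x)
  mw := 2
  mu := fun x => look 0x3fff p2mu (Nat.mul 14 x)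
  ms := []
  om := fun x => look 0x3fff p2om (Nat.mul 14 x)
noncomputable def p2w1 : List (List ℕ) := [[11,1,58,29,0,43,33],
  [57,49,0,30,27,31,36],
  [0,7,23,43,39],
  [12,25,7,23,32,27,32,35,33],
  [20,33,0,27,31,35,33],
  [15,56,0,30,35,34],
  [16,1,17,47,23,39,27,32,35],
  [11,1,19,7,33,0,27,29,32,39,34],
  [46,7,47,23,29,32,39],
  [18,42,0,28,31,35],
  [35,34,33]]
noncomputable def p2w2 : List (List ℕ) := [[1],
  [2],
  [3],
  [4],
  [5],
  [6],
  [7]]
noncomputable def p2L0c : ℕ := 0x3818a87868a0b0705058608810284808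
noncomputable def p2L0p : ℕ := 0x7060504030201000302010001000000
noncomputable def p2L0l : ℕ := 0x1010101010101010404040406060700
noncomputable def p2L0q : ℕ := 0xa0408060002030900000b070f00000d000c0501000e00
noncomputable def p2L1c : ℕ := 0x428
noncomputable def p2L1p : ℕ := 0x0
noncomputable def p2L1l : ℕ := 0x80
noncomputable def p2L1q : ℕ := 0x40
noncomputable def p2L2c : ℕ := 0x50588860
noncomputable def p2L2p : ℕ := 0x1000000
noncomputable def p2L2l : ℕ := 0x3030500
noncomputable def p2L2q : ℕ := 0x30200000000000100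
noncomputable def p2L : List Lvl := [mkLvl 8 [7,6,4,1] 16 8 p2L0c p2L0p p2L0l 23 p2L0q,
  mkLvl 40 [2] 2 6 p2L1c p2L1p p2L1l 5 p2L1q,
  mkLvl 96 [5,3] 4 8 p2L2c p2L2p p2L2l 9 p2L2q]

theorem p2c0 : okcb 23 8 (bases p2L) = true := by decide +kernel
theorem p2c1 : D2.chkNum 0 7 10200960 p2w2 p2L = true := by decide +kernel
theorem p2c2 : headAll (appW (appW app p2w1) p2w2) p2L [] = true := by decide +kernel
theorem p2c3 : allL (fun l => l.chk (appW (appW app p2w1) p2w2) 1 (l.N - 1)) p2L = true := by decide +kernel
theorem p2c4 : D2.chkPc (appW app p2w1) bs 0 64 = true := by decide +kernel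
theorem p2c5 : D2.chkFus (appW app p2w1) bs 0 24 = true := by decide +kernel
theorem p2c6 : D2.chkHead = true := by decide +kernel
theorem p2c7 : D2.chkVars 0 88 = true := by decide +kernel
theorem p2c8 : D2.chkRhos 0 7 = true := by decide +kernel
theorem p2c9 : D2.chkEnts 0 64 = true := by decide +kernel

theorem pb2 : PB PG 2 [] :=
  Dat.pbA (D := D2) base card (by norm_num : Nat.Prime 2) (okc_of_okcb p2c0) p2c1 p2c2 p2c3
    p2c4
    p2c5
    p2c6 p2c7
    p2c8
    p2c9

end Cfsg.Agent.Mult.M23
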